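import Groth.Prelude.Def_SpSeq
import Groth.Prelude.Def_W4c1gvcharpAbut
import Groth.Agent.S8355
import Mathlib

/-!
# Elementary consequences of abutment data: one-line degrees, morphisms, dimensions
-/

set_option autoImplicit false
set_option backward.isDefEq.respectTransparency false
set_option backward.isDefEq.respectTransparency.types false

universe w v u

open CategoryTheory CategoryTheory.Limits

namespace Groth.Agent.SpSeqPO

variable {C : Type u} [Category.{v} C] [Abelian C] {r₀ : ℤ}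

theorem prev_up' (k : ℤ) (pq : ℤ × ℤ) :
    (ComplexShape.up' ((k, 1 - k) : ℤ × ℤ)).prev pq = pq - (k, 1 - k) :=
  ComplexShape.prev_eq' _ (sub_add_cancel pq _)

theorem next_up' (k : ℤ) (pq : ℤ × ℤ) :
    (ComplexShape.up' ((k, 1 - k) : ℤ × ℤ)).next pq = pq + (k, 1 - k) :=
  ComplexShape.next_eq' _ rfl

theorem nonempty_stat_iso (E : CohomologicalSpectralSequence C r₀) (pq : ℤ × ℤ) (r : ℤ)
    (h : SpSeq.StationaryAt E pq r) (k : ℤ) (hk : r ≤ k) :
    Nonempty ((E.page k (h.1.trans hk)).X pq ≅ (E.page r h.1).X pq) := by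
  induction k, hk using Int.le_induction with
  | base => exact ⟨Iso.refl _⟩
  | succ k hk ih =>
    obtain ⟨e⟩ := ih
    obtain ⟨d1, d2⟩ := h.2 k (h.1.trans hk) hk
    exact ⟨(E.iso k (k + 1) pq rfl (h.1.trans hk)).symm ≪≫
      SpSeqMor.homologyIsoX E pq k (h.1.trans hk) d1 d2 ≪≫ e⟩

variable {E : CohomologicalSpectralSequence C r₀} {H : ℤ → C}

theorem nonempty_gr_iso_stat (a : SpSeq.Abutment E H) (pq : ℤ × ℤ) (r : ℤ)
    (hst : SpSeq.StationaryAt E pq r) (n : ℤ) (hn : pq.1 + pq.2 = n) :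
    Nonempty (SpSeq.grPiece (a.fil n) (a.anti n) pq.1 ≅ (E.page r hst.1).X pq) := by
  subst hn
  obtain ⟨e₁⟩ := nonempty_stat_iso E pq r hst (max r (a.rk pq)) (le_max_left _ _)
  obtain ⟨e₂⟩ := nonempty_stat_iso E pq (a.rk pq) (a.stat pq) (max r (a.rk pq)) (le_max_right _ _)
  exact ⟨(a.β pq).symm ≪≫ e₂.symm ≪≫ e₁⟩

theorem isZero_gr (a : SpSeq.Abutment E H) (pq : ℤ × ℤ) (r : ℤ) (hr : r₀ ≤ r)
    (h : IsZero ((E.page r hr).X pq)) (n : ℤ) (hn : pq.1 + pq.2 = n) :
    IsZero (SpSeq.grPiece (a.fil n) (a.anti n) pq.1) := by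
  subst hn
  exact (Groth.Agent.S8355.result E r hr pq h).2 H a

theorem arrow_eq_zero_of_eq_bot {X : C} {S : Subobject X} (h : S = ⊥) : S.arrow = 0 := by
  subst h; exact Subobject.bot_arrow

section Fil

variable {X : C} (F : ℤ → Subobject X) (hF : Antitone F)

theorem fil_eq_succ_of_isZero_gr (p : ℤ) (h : IsZero (SpSeq.grPiece F hF p)) : F p = F (p + 1) := by
  have : Epi ((F (p + 1)).ofLE (F p) (hF (Int.le_add_one le_rfl))) :=
    Abelian.epi_of_cokernel_π_eq_zero _ (IsZero.eq_zero_of_tgt h _)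
  have := isIso_of_mono_of_epi ((F (p + 1)).ofLE (F p) (hF (Int.le_add_one le_rfl)))
  refine le_antisymm (Subobject.le_of_comm
    (inv ((F (p + 1)).ofLE (F p) (hF (Int.le_add_one le_rfl)))) ?_) (hF (Int.le_add_one le_rfl))
  rw [IsIso.inv_comp_eq, Subobject.ofLE_arrow]

theorem fil_eq_of_isZero_gr (p q : ℤ) (hpq : p ≤ q)
    (h : ∀ s, p ≤ s → s < q → IsZero (SpSeq.grPiece F hF s)) : F p = F q := by
  induction q, hpq using Int.le_induction with
  | base => rfl
  | succ q hq ih =>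
    rw [ih (fun s h1 h2 => h s h1 (by omega))]
    exact fil_eq_succ_of_isZero_gr F hF q (h q hq (by omega))

end Fil

theorem nonempty_iso_of_one_term (a : SpSeq.Abutment E H) (r : ℤ) (hr : r₀ ≤ r) (q : ℤ → ℤ)
    (hdeg : ∀ m q' : ℤ, q' ≠ q m → IsZero ((E.page r hr).X (m - q', q'))) (n : ℤ)
    (hdisc : (a.filObj n).IsDiscrete) (hexh : a.IsExhaustive n)
    (hst : SpSeq.StationaryAt E (n - q n, q n) r) :
    Nonempty (H n ≅ (E.page r hr).X (n - q n, q n)) := by
  let p₀ := n - q n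
  have hz : ∀ s : ℤ, s ≠ p₀ → IsZero (SpSeq.grPiece (a.fil n) (a.anti n) s) := fun s hs => by
    have h := hdeg n (n - s) (fun e => hs (by show s = n - q n; omega))
    rw [sub_sub_cancel] at h
    exact isZero_gr a (s, n - s) r hr h n (add_sub_cancel s n)
  have htop : a.fil n p₀ = ⊤ := by
    refine top_le_iff.1 (hexh.2 ?_)
    rintro S ⟨p, rfl⟩
    show a.fil n p ≤ a.fil n p₀
    rcases le_total p p₀ with h | h
    · rw [fil_eq_of_isZero_gr (a.fil n) (a.anti n) p p₀ h fun s _ h2 => hz s h2.ne]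
    · exact a.anti n h
  have hbot : a.fil n (p₀ + 1) = ⊥ := by
    obtain ⟨b, hb⟩ := hdisc
    change a.fil n b = ⊥ at hb
    rcases le_total b (p₀ + 1) with h | h
    · exact le_bot_iff.1 (hb ▸ a.anti n h)
    · rw [fil_eq_of_isZero_gr (a.fil n) (a.anti n) (p₀ + 1) b h fun s h1 _ => hz s (by omega), hb]
  obtain ⟨e⟩ := nonempty_gr_iso_stat a (n - q n, q n) r hst n (sub_add_cancel n (q n))
  have h0 : (a.fil n (p₀ + 1)).ofLE (a.fil n p₀) (a.anti n (Int.le_add_one le_rfl)) = 0 := by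
    rw [← cancel_mono (a.fil n p₀).arrow, Subobject.ofLE_arrow, zero_comp,
      arrow_eq_zero_of_eq_bot hbot]
  haveI : IsIso (a.fil n p₀).arrow := (Subobject.isIso_arrow_iff_eq_top _).2 htop
  exact ⟨(asIso (a.fil n p₀).arrow).symm ≪≫ (cokernelIsoOfEq h0 ≪≫ cokernelZeroIsoTarget).symm ≪≫ e⟩

section Mor

theorem homologyMap_eq_zero {ι : Type*} {c : ComplexShape ι} {K L : HomologicalComplex C c}
    (φ : K ⟶ L) (i : ι) (h : φ.f i = 0) : HomologicalComplex.homologyMap φ i = 0 := by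
  have : HomologicalComplex.cyclesMap φ i = 0 := by
    rw [← cancel_mono (L.iCycles i), HomologicalComplex.cyclesMap_i, h, comp_zero, zero_comp]
  rw [← cancel_epi (K.homologyπ i), HomologicalComplex.homologyπ_naturality, this, zero_comp,
    comp_zero]

variable {E' : CohomologicalSpectralSequence C r₀} {H' : ℤ → C} {φ : E ⟶ E'}

theorem f_eq_zero_of_le (pq : ℤ × ℤ) (r : ℤ) (hr : r₀ ≤ r) (h : (φ.hom r hr).f pq = 0) (k : ℤ)
    (hk : r ≤ k) : (φ.hom k (hr.trans hk)).f pq = 0 := by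
  induction k, hk using Int.le_induction with
  | base => exact h
  | succ k hk ih =>
    have hc := φ.comm k (k + 1) pq rfl (hr.trans hk)
    rw [homologyMap_eq_zero _ _ ih, zero_comp] at hc
    rw [← cancel_epi (E.iso k (k + 1) pq rfl (hr.trans hk)).hom, comp_zero]
    exact hc.symm

variable {a : SpSeq.Abutment E H} {a' : SpSeq.Abutment E' H'}

theorem gr_eq_zero (f : SpSeqMor.AbutHom φ a a') (pq : ℤ × ℤ) (r : ℤ) (hr : r₀ ≤ r)
    (h : (φ.hom r hr).f pq = 0) (n : ℤ) (hn : pq.1 + pq.2 = n) : (f.fil n).gr pq.1 = 0 := by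
  subst hn
  let m := max r (max (a.rk pq) (a'.rk pq))
  obtain ⟨k, hk⟩ := Int.le.dest (le_max_of_le_right (le_max_left _ _) : a.rk pq ≤ m)
  obtain ⟨k', hk'⟩ := Int.le.dest (le_max_of_le_right (le_max_right _ _) : a'.rk pq ≤ m)
  have hc := f.comm pq k k' (hk.trans hk'.symm)
  rw [f_eq_zero_of_le pq r hr h (a'.rk pq + k') (hk'.symm ▸ le_max_left _ _)] at hc
  simp only [zero_comp, comp_zero] at hc
  rw [← cancel_epi (a.β pq).hom, comp_zero]
  exact hc

theorem hom_eq_zero (f : SpSeqMor.AbutHom φ a a') (l a₀ r : ℤ) (hr : r₀ ≤ r)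
    (ha : a.IsFinite l) (ha' : a'.IsFinite l)
    (hE : ∀ i : ℤ, i < a₀ → IsZero ((E.page r hr).X (i, l - i)))
    (hE' : ∀ i : ℤ, a₀ < i → IsZero ((E'.page r hr).X (i, l - i)))
    (hφ : (φ.hom r hr).f (a₀, l - a₀) = 0) : f.hom l = 0 := by
  obtain ⟨A, hA⟩ := ha.1
  obtain ⟨B, hB⟩ := ha'.2
  change a.fil l A = ⊤ at hA
  change a'.fil l B = ⊥ at hB
  have htop : a.fil l a₀ = ⊤ := by
    rcases le_total A a₀ with h | h
    · rw [← hA]
      exact (fil_eq_of_isZero_gr (a.fil l) (a.anti l) A a₀ h fun s _ hs =>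
        isZero_gr a (s, l - s) r hr (hE s hs) l (add_sub_cancel s l)).symm
    · exact top_le_iff.1 (hA ▸ a.anti l h)
  have hbot : a'.fil l (a₀ + 1) = ⊥ := by
    rcases le_total B (a₀ + 1) with h | h
    · exact le_bot_iff.1 (hB ▸ a'.anti l h)
    · rw [← hB]
      exact fil_eq_of_isZero_gr (a'.fil l) (a'.anti l) (a₀ + 1) B h fun s hs _ =>
        isZero_gr a' (s, l - s) r hr (hE' s (by omega)) l (add_sub_cancel s l)
  have hg := gr_eq_zero f (a₀, l - a₀) r hr hφ l (add_sub_cancel a₀ l)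
  let i' := (a'.filObj l).stepLE (Int.le_add_one (le_refl a₀))
  have h1 : (f.fil l).lift a₀ ≫ cokernel.π i' = 0 := by
    have := congrArg (cokernel.π ((a.filObj l).stepLE (Int.le_add_one (le_refl a₀))) ≫ ·) hg
    simpa [SpSeqMor.FilLift.gr, i'] using this
  have hi : i' = 0 := by
    rw [← cancel_mono ((a'.filObj l).fil a₀).arrow, zero_comp]
    show Subobject.ofLE _ _ _ ≫ _ = 0
    rw [Subobject.ofLE_arrow]
    exact arrow_eq_zero_of_eq_bot hbot
  have h2 : (f.fil l).lift a₀ = 0 := by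
    rw [← Abelian.monoLift_comp i' _ h1]
    simp [hi]
  have h3 := (f.fil l).lift_arrow a₀
  rw [h2, zero_comp] at h3
  haveI : IsIso ((a.filObj l).fil a₀).arrow := (Subobject.isIso_arrow_iff_eq_top _).2 htop
  rw [← cancel_epi ((a.filObj l).fil a₀).arrow, comp_zero]
  exact h3.symm

end Mor

section Degenerate

variable {E' : CohomologicalSpectralSequence C r₀}

theorem mono_homologyMap {ι : Type*} {c : ComplexShape ι} {K L : HomologicalComplex C c}
    (φ : K ⟶ L) (i : ι) (hK : K.d (c.prev i) i = 0) (hL : L.d (c.prev i) i = 0) [Mono (φ.f i)] :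
    Mono (HomologicalComplex.homologyMap φ i) := by
  have := K.isIso_homologyπ (c.prev i) i rfl hK
  have := L.isIso_homologyπ (c.prev i) i rfl hL
  have : Mono (HomologicalComplex.cyclesMap φ i) :=
    mono_of_mono_fac (HomologicalComplex.cyclesMap_i φ i)
  have e : HomologicalComplex.homologyMap φ i =
      inv (K.homologyπ i) ≫ HomologicalComplex.cyclesMap φ i ≫ L.homologyπ i := by
    rw [IsIso.eq_inv_comp, HomologicalComplex.homologyπ_naturality]
  rw [e]
  infer_instance

theorem degenerates_of_mono {E E' : E₂CohomologicalSpectralSequence C} (φ : E ⟶ E')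
    (hE : ∀ pq : ℤ × ℤ, pq.1 < 0 ∨ pq.2 < 0 → IsZero ((E.page 2 le_rfl).X pq))
    (hE' : ∀ pq : ℤ × ℤ, pq.1 < 0 ∨ pq.2 < 0 → IsZero ((E'.page 2 le_rfl).X pq))
    (hd' : ∀ (r : ℤ) (hr : 2 ≤ r) (pq : ℤ × ℤ), pq.1 ≠ 0 →
      (E'.page r hr).d pq (pq + (r, 1 - r)) = 0)
    (hφd : ∀ (r : ℤ) (hr : 2 ≤ r) (pq : ℤ × ℤ),
      (φ.hom r hr).f pq ≫ (E'.page r hr).d pq (pq + (r, 1 - r)) = 0)
    (hmono : ∀ pq : ℤ × ℤ, Mono ((φ.hom 2 le_rfl).f pq)) : SpSeq.Degenerates E 2 := by
  have hd : ∀ (r : ℤ) (hr : 2 ≤ r) (hm : ∀ pq : ℤ × ℤ, r ≤ pq.1 → Mono ((φ.hom r hr).f pq))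
      (pq : ℤ × ℤ), (E.page r hr).d pq (pq + (r, 1 - r)) = 0 := by
    intro r hr hm pq
    rcases lt_or_ge pq.1 0 with h | h
    · exact IsZero.eq_zero_of_src ((Groth.Agent.S8355.result E 2 le_rfl pq (hE pq (.inl h))).1 r hr) _
    · haveI := hm (pq + (r, 1 - r)) (by simp; omega)
      rw [← cancel_mono ((φ.hom r hr).f (pq + (r, 1 - r))), zero_comp,
        ← HomologicalComplex.Hom.comm, hφd]
  have hm : ∀ (r : ℤ) (hr : 2 ≤ r) (pq : ℤ × ℤ), r ≤ pq.1 → Mono ((φ.hom r hr).f pq) := by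
    intro r hr
    induction r, hr using Int.le_induction with
    | base => exact fun pq _ => hmono pq
    | succ r hr ih =>
      intro pq hpq
      haveI := ih pq (by omega)
      have hK : (E.page r hr).d ((ComplexShape.up' ((r, 1 - r) : ℤ × ℤ)).prev pq) pq = 0 := by
        rw [prev_up']
        have := hd r hr ih (pq - (r, 1 - r))
        rwa [sub_add_cancel] at this
      have hL : (E'.page r hr).d ((ComplexShape.up' ((r, 1 - r) : ℤ × ℤ)).prev pq) pq = 0 := by
        rw [prev_up']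
        have := hd' r hr (pq - (r, 1 - r)) (by simp; omega)
        rwa [sub_add_cancel] at this
      haveI := mono_homologyMap (φ.hom r hr) pq hK hL
      have hc := φ.comm r (r + 1) pq rfl hr
      have e : (φ.hom (r + 1) (Int.le_add_one hr)).f pq = (E.iso r (r + 1) pq rfl hr).inv ≫
          HomologicalComplex.homologyMap (φ.hom r hr) pq ≫ (E'.iso r (r + 1) pq rfl hr).hom := by
        rw [Iso.eq_inv_comp]; exact hc.symm
      rw [e]
      infer_instance
  refine ⟨le_rfl, fun r h₀ _ pq pq' => ?_⟩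
  by_cases hrel : (ComplexShape.up' ((r, 1 - r) : ℤ × ℤ)).Rel pq pq'
  · change pq + (r, 1 - r) = pq' at hrel
    subst hrel
    exact hd r h₀ (hm r h₀) pq
  · exact (E.page r h₀).shape _ _ hrel

end Degenerate

section Dim

open Module

variable {K : Type w} [Field K]

theorem finrank_le_of_mono {X Y : ModuleCat.{v} K} (i : X ⟶ Y) [Mono i] [Module.Finite K Y] :
    finrank K X ≤ finrank K Y :=
  LinearMap.finrank_le_finrank_of_injective ((ModuleCat.mono_iff_injective i).1 inferInstance)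

theorem finite_of_mono {X Y : ModuleCat.{v} K} (i : X ⟶ Y) [Mono i] [Module.Finite K Y] :
    Module.Finite K X :=
  Module.Finite.of_injective i.hom ((ModuleCat.mono_iff_injective i).1 inferInstance)

theorem finite_of_epi {X Y : ModuleCat.{v} K} (p : X ⟶ Y) [Epi p] [Module.Finite K X] :
    Module.Finite K Y :=
  Module.Finite.of_surjective p.hom ((ModuleCat.epi_iff_surjective p).1 inferInstance)

theorem finrank_le_of_epi {X Y : ModuleCat.{v} K} (p : X ⟶ Y) [Epi p] [Module.Finite K X] :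
    finrank K Y ≤ finrank K X := by
  have h := (ModuleCat.epi_iff_surjective p).1 inferInstance
  rw [← finrank_top K Y, ← LinearMap.range_eq_top.2 h]
  exact LinearMap.finrank_range_le _

theorem finrank_cokernel_add {X Y : ModuleCat.{v} K} (i : X ⟶ Y) [Mono i] [Module.Finite K Y] :
    finrank K ↥(cokernel i) + finrank K X = finrank K Y := by
  rw [(ModuleCat.cokernelIsoRangeQuotient i).toLinearEquiv.finrank_eq,
    ← Submodule.finrank_quotient_add_finrank (LinearMap.range i.hom),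
    LinearMap.finrank_range_of_inj ((ModuleCat.mono_iff_injective i).1 inferInstance)]

theorem page_finite (E : CohomologicalSpectralSequence (ModuleCat.{v} K) r₀) (pq : ℤ × ℤ)
    (hfd : Module.Finite K ((E.page r₀ le_rfl).X pq)) (k : ℤ) (hk : r₀ ≤ k) :
    Module.Finite K ((E.page k hk).X pq) := by
  induction k, hk using Int.le_induction with
  | base => exact hfd
  | succ k hk ih =>
    haveI := finite_of_mono ((E.page k hk).iCycles pq)
    haveI := finite_of_epi ((E.page k hk).homologyπ pq)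
    exact Module.Finite.equiv (E.iso k (k + 1) pq rfl hk).toLinearEquiv

theorem finrank_page_succ_le (E : CohomologicalSpectralSequence (ModuleCat.{v} K) r₀) (pq : ℤ × ℤ)
    (hfd : Module.Finite K ((E.page r₀ le_rfl).X pq)) (k : ℤ) (hk : r₀ ≤ k) :
    finrank K ((E.page (k + 1) (Int.le_add_one hk)).X pq) ≤ finrank K ((E.page k hk).X pq) := by
  haveI := page_finite E pq hfd k hk
  haveI := finite_of_mono ((E.page k hk).iCycles pq)
  rw [← (E.iso k (k + 1) pq rfl hk).toLinearEquiv.finrank_eq]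
  exact (finrank_le_of_epi ((E.page k hk).homologyπ pq)).trans
    (finrank_le_of_mono ((E.page k hk).iCycles pq))

theorem finrank_page_le (E : CohomologicalSpectralSequence (ModuleCat.{v} K) r₀) (pq : ℤ × ℤ)
    (hfd : Module.Finite K ((E.page r₀ le_rfl).X pq)) (j k : ℤ) (hj : r₀ ≤ j) (hk : j ≤ k) :
    finrank K ((E.page k (hj.trans hk)).X pq) ≤ finrank K ((E.page j hj).X pq) := by
  induction k, hk using Int.le_induction with
  | base => exact le_rfl
  | succ k hk ih => exact (finrank_page_succ_le E pq hfd k (hj.trans hk)).trans ih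

theorem d_eq_zero_of_finrank (E : CohomologicalSpectralSequence (ModuleCat.{v} K) r₀) (pq : ℤ × ℤ)
    (k : ℤ) (hk : r₀ ≤ k) (hfd : Module.Finite K ((E.page k hk).X pq))
    (h : finrank K ((E.page k hk).X pq) ≤
      finrank K ((E.page (k + 1) (Int.le_add_one hk)).X pq)) :
    (E.page k hk).d (pq - (k, 1 - k)) pq = 0 ∧ (E.page k hk).d pq (pq + (k, 1 - k)) = 0 := by
  let P := E.page k hk
  have h : finrank K (P.X pq) ≤ finrank K (P.homology pq) :=
    h.trans (E.iso k (k + 1) pq rfl hk).toLinearEquiv.finrank_eq.symm.le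
  haveI : Module.Finite K (P.X pq) := hfd
  haveI := finite_of_mono (P.iCycles pq)
  haveI := finite_of_epi (P.homologyπ pq)
  have h1 := finrank_le_of_epi (P.homologyπ pq)
  have h2 := finrank_le_of_mono (P.iCycles pq)
  have hi : IsIso (P.iCycles pq) := by
    haveI : Epi (P.iCycles pq) := (ModuleCat.epi_iff_surjective _).2
      ((LinearMap.injective_iff_surjective_of_finrank_eq_finrank (f := (P.iCycles pq).hom)
        (by omega)).1 ((ModuleCat.mono_iff_injective _).1 inferInstance))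
    exact isIso_of_mono_of_epi _
  have hπ : IsIso (P.homologyπ pq) := by
    haveI : Mono (P.homologyπ pq) := (ModuleCat.mono_iff_injective _).2
      ((LinearMap.injective_iff_surjective_of_finrank_eq_finrank (f := (P.homologyπ pq).hom)
        (by omega)).2 ((ModuleCat.epi_iff_surjective _).1 inferInstance))
    exact isIso_of_mono_of_epi _
  constructor
  · rw [← P.toCycles_i (pq - (k, 1 - k)) pq]
    have : P.toCycles (pq - (k, 1 - k)) pq = 0 := by
      rw [← cancel_mono (P.homologyπ pq), HomologicalComplex.toCycles_comp_homologyπ, zero_comp]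
    rw [this, zero_comp]
  · rw [← cancel_epi (P.iCycles pq), HomologicalComplex.iCycles_d, comp_zero]

theorem sum_finrank_gr {X : ModuleCat.{v} K} [Module.Finite K X] (F : ℤ → Subobject X)
    (hF : Antitone F) (A B : ℤ) (h : A ≤ B) :
    ∑ s ∈ Finset.Ico A B, finrank K ↥(SpSeq.grPiece F hF s) + finrank K ↥(F B : ModuleCat.{v} K) =
      finrank K ↥(F A : ModuleCat.{v} K) := by
  induction B, h using Int.le_induction with
  | base => simp
  | succ B hB ih =>
    haveI := finite_of_mono (F B).arrow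
    rw [show Finset.Ico A (B + 1) = insert B (Finset.Ico A B) by ext; simp; omega,
      Finset.sum_insert (by simp)]
    have e := finrank_cokernel_add ((F (B + 1)).ofLE (F B) (hF (Int.le_add_one le_rfl)))
    simp only [SpSeq.grPiece, SpSeq.subquot] at *
    omega

theorem stationary_of_finrank_sum (E : CohomologicalSpectralSequence (ModuleCat.{v} K) r₀)
    (H : ℤ → ModuleCat.{v} K) (a : SpSeq.Abutment E H) (n : ℤ) (hfin : a.IsFinite n)
    (hquad : ∀ pq : ℤ × ℤ, pq.1 < 0 ∨ pq.2 < 0 → IsZero ((E.page r₀ le_rfl).X pq))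
    (hfd : ∀ pq : ℤ × ℤ, Module.Finite K ((E.page r₀ le_rfl).X pq)) (hH : Module.Finite K (H n))
    (hsum : ∑ s ∈ Finset.Icc (0 : ℤ) n, Module.finrank K ((E.page r₀ le_rfl).X (s, n - s)) =
      Module.finrank K (H n)) : ∀ s : ℤ, SpSeq.StationaryAt E (s, n - s) r₀ := by
  obtain ⟨⟨A₀, hA₀⟩, ⟨B₀, hB₀⟩⟩ := hfin
  change a.fil n A₀ = ⊤ at hA₀
  change a.fil n B₀ = ⊥ at hB₀
  let A := min A₀ 0
  let B := max (max B₀ (n + 1)) A
  have hA : a.fil n A = ⊤ := top_le_iff.1 (hA₀ ▸ a.anti n (min_le_left _ _))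
  have hB : a.fil n B = ⊥ := le_bot_iff.1 (hB₀ ▸ a.anti n ((le_max_left _ _).trans (le_max_left _ _)))
  have hs := sum_finrank_gr (a.fil n) (a.anti n) A B (le_max_right _ _)
  have htop : finrank K ↥(a.fil n A : ModuleCat.{v} K) = finrank K (H n) := by
    haveI : IsIso (a.fil n A).arrow := (Subobject.isIso_arrow_iff_eq_top _).2 hA
    exact (asIso (a.fil n A).arrow).toLinearEquiv.finrank_eq
  have hbot : finrank K ↥(a.fil n B : ModuleCat.{v} K) = 0 := by
    rw [hB, Subobject.botCoeIsoZero.toLinearEquiv.finrank_eq]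
    haveI := ModuleCat.subsingleton_of_isZero (isZero_zero (ModuleCat.{v} K))
    exact Module.finrank_zero_of_subsingleton
  have hout : ∀ s : ℤ, s ∉ Finset.Icc (0 : ℤ) n → IsZero ((E.page r₀ le_rfl).X (s, n - s)) := by
    intro s hs
    simp only [Finset.mem_Icc] at hs
    exact hquad _ (show s < 0 ∨ n - s < 0 by omega)
  have hle : ∀ s : ℤ, finrank K ↥(SpSeq.grPiece (a.fil n) (a.anti n) s) ≤
      finrank K ((E.page r₀ le_rfl).X (s, n - s)) := by
    intro s
    obtain ⟨e⟩ := nonempty_gr_iso_stat a (s, n - s) _ (a.stat _) n (add_sub_cancel s n)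
    rw [e.toLinearEquiv.finrank_eq]
    exact finrank_page_le E _ (hfd _) r₀ _ le_rfl (a.stat _).1
  have hsub : Finset.Icc (0 : ℤ) n ⊆ Finset.Ico A B := by
    intro s hs
    simp only [Finset.mem_Icc] at hs
    simp only [Finset.mem_Ico, A, B]
    omega
  have hz : ∀ s ∈ Finset.Ico A B, s ∉ Finset.Icc (0 : ℤ) n →
      finrank K ↥(SpSeq.grPiece (a.fil n) (a.anti n) s) = 0 := by
    intro s _ hs
    haveI := ModuleCat.subsingleton_of_isZero
      (isZero_gr a (s, n - s) r₀ le_rfl (hout s hs) n (add_sub_cancel s n))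
    exact Module.finrank_zero_of_subsingleton
  rw [hbot, add_zero, htop, ← Finset.sum_subset hsub hz, ← hsum] at hs
  have heq := (Finset.sum_eq_sum_iff_of_le fun s _ => hle s).1 hs
  intro s
  refine ⟨le_rfl, fun k hk _ => ?_⟩
  by_cases hmem : s ∈ Finset.Icc (0 : ℤ) n
  · rcases le_or_gt (a.rk (s, n - s)) k with h | h
    · exact (a.stat _).2 k hk h
    refine d_eq_zero_of_finrank E _ k hk (page_finite E _ (hfd _) k hk) ?_
    obtain ⟨e⟩ := nonempty_gr_iso_stat a (s, n - s) _ (a.stat _) n (add_sub_cancel s n)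
    have h1 := finrank_page_le E _ (hfd (s, n - s)) r₀ k le_rfl hk
    have h2 := finrank_page_le E _ (hfd (s, n - s)) (k + 1) (a.rk (s, n - s)) (Int.le_add_one hk) h
    have h3 := heq s hmem
    rw [e.toLinearEquiv.finrank_eq] at h3
    omega
  · have hzk := (Groth.Agent.S8355.result E r₀ le_rfl _ (hout s hmem)).1 k hk
    exact ⟨hzk.eq_zero_of_tgt _, hzk.eq_zero_of_src _⟩

end Dim

end Groth.Agent.SpSeqPO
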