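import Groth.Prelude.Def_SpSeq
import Mathlib

/-!
# Pushouts and pullbacks of filtered objects, and strictness
-/

set_option autoImplicit false
set_option backward.isDefEq.respectTransparency false
set_option backward.isDefEq.respectTransparency.types false

universe v u

open CategoryTheory CategoryTheory.Limits

namespace Groth.Agent.SpSeqPO

variable {A : Type u} [Category.{v} A] [Abelian A]

theorem factors_of_epi_comp {X W W' : A} (S : Subobject X) (π : W' ⟶ W) [Epi π] (y : W ⟶ X)
    (h : S.Factors (π ≫ y)) : S.Factors y := by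
  have h0 : y ≫ cokernel.π S.arrow = 0 := by
    rw [← cancel_epi π, comp_zero, ← Category.assoc, ← S.factorThru_arrow _ h, Category.assoc,
      cokernel.condition, comp_zero]
  rw [← Abelian.monoLift_comp S.arrow y h0]
  exact Subobject.factors_comp_arrow _

theorem factors_imageSubobject {X Y W : A} (f : X ⟶ Y) (x : W ⟶ X) :
    (imageSubobject f).Factors (x ≫ f) := by
  simpa using Subobject.factors_comp_arrow (P := imageSubobject f) (x ≫ factorThruImageSubobject f)

theorem imageSubobject_factors_iff {X Y W : A} (f : X ⟶ Y) (y : W ⟶ Y) :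
    (imageSubobject f).Factors y ↔
      ∃ (W' : A) (π : W' ⟶ W) (_ : Epi π) (x : W' ⟶ X), π ≫ y = x ≫ f := by
  constructor
  · intro h
    refine ⟨pullback ((imageSubobject f).factorThru y h) (factorThruImageSubobject f),
      pullback.fst _ _, inferInstance, pullback.snd _ _, ?_⟩
    calc _ = pullback.fst _ _ ≫ (imageSubobject f).factorThru y h ≫ (imageSubobject f).arrow := by
          rw [Subobject.factorThru_arrow]
      _ = _ := by rw [pullback.condition_assoc, imageSubobject_arrow_comp]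
  · rintro ⟨W', π, _, x, hx⟩
    exact factors_of_epi_comp _ π y (hx ▸ factors_imageSubobject f x)

theorem subobject_le_of_factors {X : A} {S T : Subobject X}
    (h : ∀ {W : A} (y : W ⟶ X), S.Factors y → T.Factors y) : S ≤ T :=
  Subobject.le_of_comm (T.factorThru _ (h S.arrow (by simpa using Subobject.factors_comp_arrow (P := S) (𝟙 _))))
    (Subobject.factorThru_arrow _ _ _)

variable {K L M : SpSeq.FilObj A}

theorem hom_factors (f : K ⟶ L) {p : ℤ} {W : A} (x : W ⟶ K.obj) (hx : (K.fil p).Factors x) :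
    (L.fil p).Factors (x ≫ f.hom) :=
  (pullback_factors_iff _ _ _).1 (Subobject.factors_of_le x (f.compat p) hx)

theorem isStrict_iff (f : K ⟶ L) : SpSeq.FilObj.IsStrict f ↔
    ∀ (p : ℤ) {W : A} (x : W ⟶ K.obj), (L.fil p).Factors (x ≫ f.hom) →
      ∃ (W' : A) (π : W' ⟶ W) (_ : Epi π) (x' : W' ⟶ K.obj),
        (K.fil p).Factors x' ∧ π ≫ x ≫ f.hom = x' ≫ f.hom := by
  constructor
  · intro hf p W x hx
    have h : (imageSubobject ((K.fil p).arrow ≫ f.hom)).Factors (x ≫ f.hom) := by
      rw [hf p]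
      exact (Subobject.inf_factors _).2 ⟨factors_imageSubobject _ _, hx⟩
    obtain ⟨W', π, hπ, z, hz⟩ := (imageSubobject_factors_iff _ _).1 h
    exact ⟨W', π, hπ, z ≫ (K.fil p).arrow, Subobject.factors_comp_arrow _,
      by rw [hz, Category.assoc]⟩
  · intro h p
    apply le_antisymm
    · refine subobject_le_of_factors fun y hy => ?_
      obtain ⟨W', π, hπ, z, hz⟩ := (imageSubobject_factors_iff _ _).1 hy
      refine factors_of_epi_comp _ π y ?_
      rw [hz, ← Category.assoc]
      exact (Subobject.inf_factors _).2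
        ⟨factors_imageSubobject _ _, hom_factors f _ (Subobject.factors_comp_arrow _)⟩
    · refine subobject_le_of_factors fun y hy => ?_
      obtain ⟨hy1, hy2⟩ := (Subobject.inf_factors _).1 hy
      obtain ⟨W', π, hπ, x, hx⟩ := (imageSubobject_factors_iff _ _).1 hy1
      obtain ⟨W'', π', hπ', x', hx', hx''⟩ :=
        h p x (hx ▸ Subobject.factors_of_factors_right π hy2)
      refine (imageSubobject_factors_iff _ _).2
        ⟨W'', π' ≫ π, inferInstance, (K.fil p).factorThru x' hx', ?_⟩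
      rw [Subobject.factorThru_arrow_assoc, Category.assoc, hx, hx'']

section Pushout

variable (f : K ⟶ L) (g : K ⟶ M)

/-- The filtration on the pushout. -/
noncomputable def pushoutFil (p : ℤ) : Subobject (pushout f.hom g.hom) :=
  imageSubobject (biprod.desc ((L.fil p).arrow ≫ pushout.inl f.hom g.hom)
    ((M.fil p).arrow ≫ pushout.inr f.hom g.hom))

/-- The pushout of filtered objects. -/
noncomputable abbrev pushoutObj : SpSeq.FilObj A :=
  ⟨pushout f.hom g.hom, pushoutFil f g, fun p q h =>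
    SpSeq.FilCx.imageSubobject_le_of_fac (biprod.map (L.stepLE h) (M.stepLE h)) (by
      ext <;> simp [SpSeq.FilObj.stepLE])⟩

/-- The first coprojection. -/
noncomputable abbrev pushoutInl : L ⟶ pushoutObj f g :=
  ⟨pushout.inl f.hom g.hom, fun p => subobject_le_of_factors fun y hy =>
    (pullback_factors_iff _ _ _).2 ((imageSubobject_factors_iff _ _).2
      ⟨_, 𝟙 _, inferInstance, (L.fil p).factorThru y hy ≫ biprod.inl, by simp⟩)⟩

/-- The second coprojection. -/
noncomputable abbrev pushoutInr : M ⟶ pushoutObj f g :=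
  ⟨pushout.inr f.hom g.hom, fun p => subobject_le_of_factors fun y hy =>
    (pullback_factors_iff _ _ _).2 ((imageSubobject_factors_iff _ _).2
      ⟨_, 𝟙 _, inferInstance, (M.fil p).factorThru y hy ≫ biprod.inr, by simp⟩)⟩

/-- The universal property. -/
noncomputable def pushoutDesc {T : SpSeq.FilObj A} (a : L ⟶ T) (b : M ⟶ T)
    (w : f ≫ a = g ≫ b) : pushoutObj f g ⟶ T :=
  ⟨pushout.desc a.hom b.hom (congrArg SpSeq.FilObj.Hom.hom w), fun p =>
    subobject_le_of_factors fun y hy => by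
      rw [pullback_factors_iff]
      obtain ⟨W', π, hπ, x, hx⟩ := (imageSubobject_factors_iff _ _).1 hy
      refine factors_of_epi_comp _ π _ ?_
      rw [← Category.assoc]
      erw [hx]
      have e : biprod.desc ((L.fil p).arrow ≫ pushout.inl f.hom g.hom)
          ((M.fil p).arrow ≫ pushout.inr f.hom g.hom) ≫
            pushout.desc a.hom b.hom (congrArg SpSeq.FilObj.Hom.hom w) =
          biprod.fst ≫ (L.fil p).arrow ≫ a.hom + biprod.snd ≫ (M.fil p).arrow ≫ b.hom := by
        ext <;> simp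
      erw [Category.assoc, e, Preadditive.comp_add]
      refine Subobject.factors_add _ _ ?_ ?_ <;> (simp only [← Category.assoc])
      · exact hom_factors a _ (Subobject.factors_comp_arrow _)
      · exact hom_factors b _ (Subobject.factors_comp_arrow _)⟩

theorem pushout_isPushout : IsPushout f g (pushoutInl f g) (pushoutInr f g) := by
  refine ⟨⟨SpSeq.FilObj.Hom.ext pushout.condition⟩, ⟨PushoutCocone.IsColimit.mk _
    (fun s => pushoutDesc f g s.inl s.inr s.condition)
    (fun s => SpSeq.FilObj.Hom.ext (pushout.inl_desc _ _ _))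
    (fun s => SpSeq.FilObj.Hom.ext (pushout.inr_desc _ _ _))
    (fun s m h₁ h₂ => SpSeq.FilObj.Hom.ext ?_)⟩⟩
  exact pushout.hom_ext
    ((congrArg SpSeq.FilObj.Hom.hom h₁).trans (pushout.inl_desc _ _ _).symm)
    ((congrArg SpSeq.FilObj.Hom.hom h₂).trans (pushout.inr_desc _ _ _).symm)

theorem isStrict_pushoutInr (hf : SpSeq.FilObj.IsStrict f) :
    SpSeq.FilObj.IsStrict (pushoutInr f g) := by
  rw [isStrict_iff]
  intro p W x hx
  obtain ⟨W₁, π₁, hπ₁, z, hz⟩ := (imageSubobject_factors_iff _ _).1 hx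
  let a : W₁ ⟶ L.obj := z ≫ biprod.fst ≫ (L.fil p).arrow
  let b : W₁ ⟶ M.obj := z ≫ biprod.snd ≫ (M.fil p).arrow
  have ha : (L.fil p).Factors a := by
    simpa [a] using Subobject.factors_comp_arrow (P := L.fil p) (z ≫ biprod.fst)
  have hb : (M.fil p).Factors b := by
    simpa [b] using Subobject.factors_comp_arrow (P := M.fil p) (z ≫ biprod.snd)
  have hz' : π₁ ≫ x ≫ pushout.inr f.hom g.hom =
      a ≫ pushout.inl f.hom g.hom + b ≫ pushout.inr f.hom g.hom := by
    refine hz.trans ?_
    have e : biprod.desc ((L.fil p).arrow ≫ pushout.inl f.hom g.hom)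
        ((M.fil p).arrow ≫ pushout.inr f.hom g.hom) =
        biprod.fst ≫ (L.fil p).arrow ≫ pushout.inl f.hom g.hom +
          biprod.snd ≫ (M.fil p).arrow ≫ pushout.inr f.hom g.hom := by
      ext <;> simp
    rw [e, Preadditive.comp_add]
    simp only [a, b, Category.assoc]
  have sq : IsPushout f.hom g.hom (pushout.inl f.hom g.hom) (pushout.inr f.hom g.hom) :=
    IsPushout.of_hasPushout _ _
  have hex : sq.shortComplex.Exact :=
    ShortComplex.exact_of_g_is_cokernel _ sq.isColimitCokernelCofork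
  have h0 : biprod.lift a (b - π₁ ≫ x) ≫
      biprod.desc (pushout.inl f.hom g.hom) (pushout.inr f.hom g.hom) = 0 := by
    rw [biprod.lift_desc, Preadditive.sub_comp, Category.assoc π₁ x, hz']
    abel
  obtain ⟨W₂, π₂, hπ₂, k, hk⟩ :=
    (ShortComplex.exact_iff_exact_up_to_refinements _).1 hex (biprod.lift a (b - π₁ ≫ x)) h0
  have hk' : π₂ ≫ biprod.lift a (b - π₁ ≫ x) = k ≫ biprod.lift f.hom (-g.hom) := hk
  have hk1 : π₂ ≫ a = k ≫ f.hom := by simpa using congrArg (· ≫ biprod.fst) hk'
  have hk2 : π₂ ≫ (b - π₁ ≫ x) = -(k ≫ g.hom) := by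
    simpa [Preadditive.comp_neg] using congrArg (· ≫ biprod.snd) hk'
  obtain ⟨W₃, π₃, hπ₃, k', hk'F, hk'e⟩ :=
    (isStrict_iff f).1 hf p k (hk1 ▸ Subobject.factors_of_factors_right π₂ ha)
  refine ⟨W₃, π₃ ≫ π₂ ≫ π₁, inferInstance, π₃ ≫ π₂ ≫ b + k' ≫ g.hom,
    Subobject.factors_add _ _ ?_ (hom_factors g k' hk'F), ?_⟩
  · simpa only [Category.assoc] using Subobject.factors_of_factors_right (π₃ ≫ π₂) hb
  · show (π₃ ≫ π₂ ≫ π₁) ≫ x ≫ pushout.inr f.hom g.hom = _ ≫ pushout.inr f.hom g.hom
    have hx2 : π₂ ≫ π₁ ≫ x = π₂ ≫ b + k ≫ g.hom := by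
      rw [Preadditive.comp_sub, sub_eq_iff_eq_add] at hk2
      rw [hk2]; abel
    have hkg : π₃ ≫ k ≫ g.hom ≫ pushout.inr f.hom g.hom =
        k' ≫ g.hom ≫ pushout.inr f.hom g.hom := by
      rw [← pushout.condition, ← Category.assoc k, ← Category.assoc π₃, hk'e, Category.assoc]
    have hx3 := congrArg (fun t => π₃ ≫ t ≫ pushout.inr f.hom g.hom) hx2
    simp only [Category.assoc, Preadditive.add_comp, Preadditive.comp_add] at hx3 ⊢
    rw [hx3, hkg]

end Pushout

theorem isStrict_comp_iso_hom (f : K ⟶ L) (e : L ≅ M) (hf : SpSeq.FilObj.IsStrict f) :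
    SpSeq.FilObj.IsStrict (f ≫ e.hom) := by
  rw [isStrict_iff] at hf ⊢
  intro p W x hx
  have hx' : (L.fil p).Factors (x ≫ f.hom) := by
    have h := hom_factors e.inv _ hx
    have e' : e.hom.hom ≫ e.inv.hom = 𝟙 L.obj := congrArg SpSeq.FilObj.Hom.hom e.hom_inv_id
    change (L.fil p).Factors ((x ≫ f.hom ≫ e.hom.hom) ≫ e.inv.hom) at h
    rwa [Category.assoc, Category.assoc, e', Category.comp_id] at h
  obtain ⟨W', π, hπ, x', hx'F, hx'e⟩ := hf p x hx'
  exact ⟨W', π, hπ, x', hx'F, by
    show π ≫ x ≫ f.hom ≫ e.hom.hom = x' ≫ f.hom ≫ e.hom.hom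
    simpa only [Category.assoc] using congrArg (· ≫ e.hom.hom) hx'e⟩

theorem isStrict_iso_hom_comp (e : K ≅ L) (f : L ⟶ M) (hf : SpSeq.FilObj.IsStrict f) :
    SpSeq.FilObj.IsStrict (e.hom ≫ f) := by
  rw [isStrict_iff] at hf ⊢
  intro p W x hx
  have e' : e.inv.hom ≫ e.hom.hom = 𝟙 L.obj := congrArg SpSeq.FilObj.Hom.hom e.inv_hom_id
  obtain ⟨W', π, hπ, x', hx'F, hx'e⟩ :=
    hf p (x ≫ e.hom.hom) (by rw [Category.assoc]; exact hx)
  refine ⟨W', π, hπ, x' ≫ e.inv.hom, hom_factors e.inv _ hx'F, ?_⟩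
  show π ≫ x ≫ e.hom.hom ≫ f.hom = (x' ≫ e.inv.hom) ≫ e.hom.hom ≫ f.hom
  rw [Category.assoc, ← Category.assoc e.inv.hom, e', Category.id_comp, ← hx'e]
  simp only [Category.assoc]

theorem pushout_strict (f : K ⟶ L) (g : K ⟶ M) (P : SpSeq.FilObj A) (g' : L ⟶ P) (f' : M ⟶ P)
    (h : IsPushout f g g' f') (hf : SpSeq.FilObj.IsStrict f) : SpSeq.FilObj.IsStrict f' := by
  rw [← (pushout_isPushout f g).inr_isoIsPushout_hom _ _ h]
  exact isStrict_comp_iso_hom _ _ (isStrict_pushoutInr f g hf)

section Pullback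

variable (f : L ⟶ K) (g : M ⟶ K)

/-- The pullback of filtered objects. -/
noncomputable abbrev pullbackObj : SpSeq.FilObj A :=
  ⟨pullback f.hom g.hom,
    fun p => (Subobject.pullback (pullback.fst f.hom g.hom)).obj (L.fil p) ⊓
      (Subobject.pullback (pullback.snd f.hom g.hom)).obj (M.fil p),
    fun _ _ h => inf_le_inf ((Subobject.pullback _).map (homOfLE (L.anti h))).le
      ((Subobject.pullback _).map (homOfLE (M.anti h))).le⟩

/-- The first projection. -/
noncomputable abbrev pullbackFst : pullbackObj f g ⟶ L :=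
  ⟨pullback.fst f.hom g.hom, fun _ => inf_le_left⟩

/-- The second projection. -/
noncomputable abbrev pullbackSnd : pullbackObj f g ⟶ M :=
  ⟨pullback.snd f.hom g.hom, fun _ => inf_le_right⟩

/-- The universal property. -/
noncomputable def pullbackLift {T : SpSeq.FilObj A} (a : T ⟶ L) (b : T ⟶ M)
    (w : a ≫ f = b ≫ g) : T ⟶ pullbackObj f g :=
  ⟨pullback.lift a.hom b.hom (congrArg SpSeq.FilObj.Hom.hom w), fun p =>
    subobject_le_of_factors fun y hy => by
      rw [pullback_factors_iff]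
      refine (Subobject.inf_factors _).2 ⟨?_, ?_⟩ <;> rw [pullback_factors_iff]
      · rw [Category.assoc, pullback.lift_fst]
        exact hom_factors a y hy
      · rw [Category.assoc, pullback.lift_snd]
        exact hom_factors b y hy⟩

theorem pullback_isPullback : IsPullback (pullbackFst f g) (pullbackSnd f g) f g := by
  refine ⟨⟨SpSeq.FilObj.Hom.ext pullback.condition⟩, ⟨PullbackCone.IsLimit.mk _
    (fun s => pullbackLift f g s.fst s.snd s.condition)
    (fun s => SpSeq.FilObj.Hom.ext (pullback.lift_fst _ _ _))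
    (fun s => SpSeq.FilObj.Hom.ext (pullback.lift_snd _ _ _))
    (fun s m h₁ h₂ => SpSeq.FilObj.Hom.ext ?_)⟩⟩
  exact pullback.hom_ext
    ((congrArg SpSeq.FilObj.Hom.hom h₁).trans (pullback.lift_fst _ _ _).symm)
    ((congrArg SpSeq.FilObj.Hom.hom h₂).trans (pullback.lift_snd _ _ _).symm)

theorem isStrict_pullbackSnd (hf : SpSeq.FilObj.IsStrict f) :
    SpSeq.FilObj.IsStrict (pullbackSnd f g) := by
  rw [isStrict_iff]
  intro p W x hx
  change (M.fil p).Factors (x ≫ pullback.snd f.hom g.hom) at hx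
  have hK : (K.fil p).Factors ((x ≫ pullback.fst f.hom g.hom) ≫ f.hom) := by
    rw [Category.assoc, pullback.condition, ← Category.assoc]
    exact hom_factors g _ hx
  obtain ⟨W', π, hπ, l, hl, hle⟩ := (isStrict_iff f).1 hf p _ hK
  have w : l ≫ f.hom = (π ≫ x ≫ pullback.snd f.hom g.hom) ≫ g.hom := by
    rw [← hle]; simp only [Category.assoc, pullback.condition]
  refine ⟨W', π, hπ, pullback.lift l (π ≫ x ≫ pullback.snd f.hom g.hom) w, ?_,
    (pullback.lift_snd _ _ _).symm⟩
  refine (Subobject.inf_factors _).2 ⟨?_, ?_⟩ <;> rw [pullback_factors_iff]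
  · rw [pullback.lift_fst]
    exact hl
  · rw [pullback.lift_snd]
    exact Subobject.factors_of_factors_right π hx

end Pullback

theorem pullback_strict (f : L ⟶ K) (g : M ⟶ K) (P : SpSeq.FilObj A) (g' : P ⟶ L) (f' : P ⟶ M)
    (h : IsPullback g' f' f g) (hf : SpSeq.FilObj.IsStrict f) : SpSeq.FilObj.IsStrict f' := by
  rw [← h.isoIsPullback_hom_snd _ _ (pullback_isPullback f g)]
  exact isStrict_iso_hom_comp _ _ (isStrict_pullbackSnd f g hf)

end Groth.Agent.SpSeqPO
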